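import Mathlib

/-!
# The principal ideal theorem

The transfer from a finite group to the abelianization of its derived subgroup is trivial.
The proof is the determinant argument in the splitting module.
-/

set_option autoImplicit false
set_option linter.style.haveILetI false

open scoped Classical
open Finset

namespace CfsgLib.PrincipalIdeal

variable {G : Type*} [Group G]

/-- The abelianization of the derived subgroup, written additively. -/
abbrev AD (G : Type*) [Group G] : Type _ := Additive (Abelianization ↥(commutator G))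

/-- The class of an element of the derived subgroup. -/
abbrev cls (x : ↥(commutator G)) : AD G := Additive.ofMul (Abelianization.of x)

theorem cls_mul (x y : ↥(commutator G)) : cls (x * y) = cls x + cls y := by
  show Additive.ofMul (Abelianization.of (x * y)) = _
  rw [map_mul]; rfl

/-- A normalized section of `G → G/G'`. -/
noncomputable def sec (q : Abelianization G) : G := if q = 1 then 1 else Quotient.out q

theorem of_sec (q : Abelianization G) : Abelianization.of (sec q) = q := by
  unfold sec
  split_ifs with h
  · rw [map_one, h]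
  · exact Quotient.out_eq q

theorem sec_one : sec (1 : Abelianization G) = 1 := if_pos rfl

theorem of_eq_one_iff (g : G) : Abelianization.of g = 1 ↔ g ∈ commutator G :=
  QuotientGroup.eq_one_iff g

/-- Conjugation on the abelianized derived subgroup. -/
noncomputable def act (g : G) : AD G →+ AD G :=
  MonoidHom.toAdditive (Abelianization.map (MulAut.conjNormal g : MulAut ↥(commutator G)).toMonoidHom)

theorem act_cls (g : G) (x : ↥(commutator G)) :
    act g (cls x) = cls (MulAut.conjNormal g x) := by
  show Additive.ofMul (Abelianization.map _ (Abelianization.of x)) = _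
  rw [Abelianization.map_of]; rfl

theorem exists_cls (a : AD G) : ∃ x : ↥(commutator G), cls x = a := by
  obtain ⟨b, rfl⟩ : ∃ b, Additive.ofMul b = a := ⟨_, rfl⟩
  obtain ⟨x, hx⟩ := QuotientGroup.mk_surjective b
  exact ⟨x, congrArg Additive.ofMul hx⟩

theorem act_mul (g h : G) (a : AD G) : act (g * h) a = act g (act h a) := by
  obtain ⟨x, rfl⟩ := exists_cls a
  rw [act_cls, act_cls, act_cls, map_mul, MulAut.mul_apply]

theorem act_one (a : AD G) : act (1 : G) a = a := by
  obtain ⟨x, rfl⟩ := exists_cls a
  rw [act_cls, map_one, MulAut.one_apply]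

theorem act_mem {n : G} (hn : n ∈ commutator G) (a : AD G) : act n a = a := by
  obtain ⟨x, rfl⟩ := exists_cls a
  rw [act_cls]
  have e : MulAut.conjNormal n x = (⟨n, hn⟩ : ↥(commutator G)) * x * (⟨n, hn⟩)⁻¹ := by
    apply Subtype.ext
    simp [MulAut.conjNormal_apply]
  rw [e, cls_mul, cls_mul]
  have : cls (⟨n, hn⟩ : ↥(commutator G))⁻¹ = - cls ⟨n, hn⟩ := by
    show Additive.ofMul (Abelianization.of (⟨n, hn⟩ : ↥(commutator G))⁻¹) = _
    rw [map_inv]; rfl
  rw [this]; abel

theorem act_eq_of_eq {g h : G} (e : Abelianization.of g = Abelianization.of h) (a : AD G) :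
    act g a = act h a := by
  have hm : h⁻¹ * g ∈ commutator G := by
    rw [← of_eq_one_iff, map_mul, map_inv, e, inv_mul_cancel]
  rw [show g = h * (h⁻¹ * g) by group, act_mul, act_mem hm]

theorem act_sec_one (a : AD G) : act (sec (1 : Abelianization G)) a = a := by rw [sec_one, act_one]

theorem act_sec_mul (p q : Abelianization G) (a : AD G) :
    act (sec (p * q)) a = act (sec p) (act (sec q) a) := by
  rw [← act_mul]
  exact act_eq_of_eq (by rw [of_sec, map_mul, of_sec, of_sec]) a

/-- The factor set of the section. -/
noncomputable def fct (p q : Abelianization G) : AD G :=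
  cls ⟨sec p * sec q * (sec (p * q))⁻¹, by
    rw [← of_eq_one_iff, map_mul, map_mul, map_inv, of_sec, of_sec, of_sec, mul_inv_cancel]⟩

theorem fct_one_left (q : Abelianization G) : fct 1 q = 0 := by
  unfold fct
  have : (⟨sec 1 * sec q * (sec (1 * q))⁻¹, by
      rw [← of_eq_one_iff, map_mul, map_mul, map_inv, of_sec, of_sec, of_sec, mul_inv_cancel]⟩ :
      ↥(commutator G)) = 1 := by
    apply Subtype.ext
    simp [sec_one]
  rw [this]
  exact congrArg Additive.ofMul (map_one _)

theorem fct_one_right (p : Abelianization G) : fct p 1 = 0 := by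
  unfold fct
  have : (⟨sec p * sec 1 * (sec (p * 1))⁻¹, by
      rw [← of_eq_one_iff, map_mul, map_mul, map_inv, of_sec, of_sec, of_sec, mul_inv_cancel]⟩ :
      ↥(commutator G)) = 1 := by
    apply Subtype.ext
    simp [sec_one]
  rw [this]
  exact congrArg Additive.ofMul (map_one _)

theorem fct_cocycle (r p q : Abelianization G) :
    act (sec r) (fct p q) + fct r (p * q) = fct r p + fct (r * p) q := by
  unfold fct
  rw [act_cls, ← cls_mul, ← cls_mul]
  congr 1
  apply Subtype.ext
  simp [MulAut.conjNormal_apply, mul_assoc]

variable [Finite G]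

/-- Coordinates of the splitting module. -/
abbrev Co (G : Type*) [Group G] : Type _ := AD G × (Abelianization G → ℤ)

noncomputable instance : Fintype (Abelianization G) :=
  haveI : Finite (Abelianization G) := Quotient.finite _
  Fintype.ofFinite _

/-- The splitting module. -/
noncomputable def split (G : Type*) [Group G] [Finite G] : Submodule ℤ (Co G) where
  carrier := {x | ∑ q, x.2 q = 0}
  add_mem' {x y} hx hy := by
    show ∑ q, (x.2 q + y.2 q) = 0
    rw [Finset.sum_add_distrib, show ∑ q, x.2 q = 0 from hx, show ∑ q, y.2 q = 0 from hy, add_zero]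
  zero_mem' := by simp
  smul_mem' c x hx := by
    show ∑ q, (c • x.2) q = 0
    simp only [Pi.smul_apply, smul_eq_mul, ← Finset.mul_sum]
    rw [show ∑ q, x.2 q = 0 from hx, mul_zero]

/-- The action of `p` on coordinates. -/
noncomputable def rhoFun (p : Abelianization G) (x : Co G) : Co G :=
  (act (sec p) x.1 + ∑ q, x.2 q • fct p q, fun q => x.2 (p⁻¹ * q))

theorem rhoFun_mem (p : Abelianization G) {x : Co G} (hx : x ∈ split G) : rhoFun p x ∈ split G := by
  show ∑ q, x.2 (p⁻¹ * q) = 0
  rw [← show ∑ q, x.2 q = 0 from hx]
  exact Fintype.sum_equiv (Equiv.mulLeft p⁻¹) _ _ fun q => rfl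

theorem rhoFun_one (x : Co G) : rhoFun 1 x = x := by
  apply Prod.ext
  · simp only [rhoFun, act_sec_one, fct_one_left, smul_zero, Finset.sum_const_zero, add_zero]
  · funext q; simp [rhoFun]

theorem rhoFun_mul (r p : Abelianization G) {x : Co G} (hx : x ∈ split G) :
    rhoFun (r * p) x = rhoFun r (rhoFun p x) := by
  apply Prod.ext
  · show act (sec (r * p)) x.1 + ∑ q, x.2 q • fct (r * p) q =
      act (sec r) (act (sec p) x.1 + ∑ q, x.2 q • fct p q) + ∑ q, x.2 (p⁻¹ * q) • fct r q
    rw [map_add, act_sec_mul, map_sum, add_assoc]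
    congr 1
    rw [show ∑ q, x.2 (p⁻¹ * q) • fct r q = ∑ q, x.2 q • fct r (p * q) from
      (Fintype.sum_equiv (Equiv.mulLeft p) _ _ fun q => by simp).symm]
    rw [← Finset.sum_add_distrib]
    simp only [map_zsmul, ← smul_add, fct_cocycle]
    simp only [smul_add, Finset.sum_add_distrib, ← Finset.sum_smul]
    rw [show ∑ q, x.2 q = 0 from hx, zero_smul, zero_add]
  · funext q
    show x.2 ((r * p)⁻¹ * q) = x.2 (p⁻¹ * (r⁻¹ * q))
    rw [mul_inv_rev, mul_assoc]

/-- The action as linear maps. -/
noncomputable def rhoLin (p : Abelianization G) : Module.End ℤ (split G) :=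
  AddMonoidHom.toIntLinearMap
    { toFun := fun x => ⟨rhoFun p x.1, rhoFun_mem p x.2⟩
      map_zero' := by
        apply Subtype.ext
        apply Prod.ext
        · simp [rhoFun]
        · funext q; simp [rhoFun]
      map_add' := fun x y => by
        apply Subtype.ext
        apply Prod.ext
        · show act (sec p) (x.1.1 + y.1.1) + ∑ q, (x.1.2 q + y.1.2 q) • fct p q =
            (act (sec p) x.1.1 + ∑ q, x.1.2 q • fct p q) + (act (sec p) y.1.1 + ∑ q, y.1.2 q • fct p q)
          simp only [map_add, add_smul, Finset.sum_add_distrib]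
          abel
        · funext q; rfl }

/-- The action as a representation. -/
noncomputable def rho : Abelianization G →* Module.End ℤ (split G) where
  toFun := rhoLin
  map_one' := LinearMap.ext fun x => Subtype.ext (rhoFun_one x.1)
  map_mul' r p := LinearMap.ext fun x => Subtype.ext (rhoFun_mul r p x.2)

/-- The vector `e_q - e_1`. -/
noncomputable def bvec (q : Abelianization G) : Abelianization G → ℤ := Pi.single q 1 - Pi.single 1 1

/-- The derivation. -/
noncomputable def del (g : G) : split G :=
  ⟨(cls ⟨g * (sec (Abelianization.of g))⁻¹, by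
      rw [← of_eq_one_iff, map_mul, map_inv, of_sec, mul_inv_cancel]⟩, bvec (Abelianization.of g)), by
    show ∑ q, bvec (Abelianization.of g) q = 0
    simp [bvec, Finset.sum_sub_distrib]⟩

theorem del_mul (g h : G) : del (g * h) = del g + rho (Abelianization.of g) (del h) := by
  apply Subtype.ext
  apply Prod.ext
  · show cls _ = cls _ + (act (sec (Abelianization.of g)) (cls _) +
      ∑ q, bvec (Abelianization.of h) q • fct (Abelianization.of g) q)
    have hsum : ∑ q, bvec (Abelianization.of h) q • fct (Abelianization.of g) q =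
        fct (Abelianization.of g) (Abelianization.of h) := by
      simp only [bvec, Pi.sub_apply, sub_smul, Finset.sum_sub_distrib]
      rw [Finset.sum_eq_single (Abelianization.of h), Finset.sum_eq_single (1 : Abelianization G)]
      · simp [fct_one_right]
      · intro b _ hb; simp [Pi.single_eq_of_ne hb]
      · simp
      · intro b _ hb; simp [Pi.single_eq_of_ne hb]
      · simp
    rw [hsum, act_cls, fct, ← cls_mul, ← cls_mul]
    congr 1
    apply Subtype.ext
    simp [MulAut.conjNormal_apply, map_mul, mul_assoc]
  · funext q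
    show bvec (Abelianization.of (g * h)) q = bvec (Abelianization.of g) q +
      bvec (Abelianization.of h) ((Abelianization.of g)⁻¹ * q)
    simp only [bvec, map_mul, Pi.sub_apply, Pi.single_apply, inv_mul_eq_iff_eq_mul, mul_one]
    ring

theorem del_coe_mem (n : ↥(commutator G)) : (del (n : G) : Co G) = (cls n, 0) := by
  have h : Abelianization.of (n : G) = 1 := (of_eq_one_iff _).mpr n.2
  apply Prod.ext
  · show cls _ = cls n
    congr 1
    apply Subtype.ext
    simp [h, sec_one]
  · show bvec _ = 0
    rw [h, bvec, sub_self]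

theorem del_one : del (1 : G) = 0 := by
  have h := del_mul (1 : G) 1
  rw [mul_one, map_one, map_one, Module.End.one_apply] at h
  exact left_eq_add.mp h

/-- The action of the integral group ring. -/
noncomputable def ring : MonoidAlgebra ℤ (Abelianization G) →ₐ[ℤ] Module.End ℤ (split G) :=
  MonoidAlgebra.lift ℤ (Module.End ℤ (split G)) (Abelianization G) rho

theorem ring_single (p : Abelianization G) (x : split G) :
    ring (MonoidAlgebra.single p 1) x = rho p x := by
  rw [ring, MonoidAlgebra.lift_single, one_smul]

/-- The augmentation. -/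
noncomputable def aug : MonoidAlgebra ℤ (Abelianization G) →ₐ[ℤ] ℤ :=
  MonoidAlgebra.lift ℤ ℤ (Abelianization G) 1

theorem aug_single (p : Abelianization G) (c : ℤ) : aug (MonoidAlgebra.single p c) = c := by
  rw [aug, MonoidAlgebra.lift_single]; simp

/-- The vector part, in the group ring. -/
noncomputable def vec : split G →+ MonoidAlgebra ℤ (Abelianization G) where
  toFun x := ∑ q, MonoidAlgebra.single q (x.1.2 q)
  map_zero' := by simp
  map_add' x y := by simp [MonoidAlgebra.single_add, Finset.sum_add_distrib]

theorem vec_ring (r : MonoidAlgebra ℤ (Abelianization G)) (x : split G) :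
    vec (ring r x) = r * vec x := by
  induction r using MonoidAlgebra.induction_on with
  | of p =>
    rw [MonoidAlgebra.of_apply, ring_single]
    show ∑ q, MonoidAlgebra.single q (x.1.2 (p⁻¹ * q)) = _
    show _ = MonoidAlgebra.single p 1 * ∑ q, MonoidAlgebra.single q (x.1.2 q)
    rw [Finset.mul_sum]
    simp only [MonoidAlgebra.single_mul_single, one_mul]
    exact (Fintype.sum_equiv (Equiv.mulLeft p) _ _ fun q => by simp).symm
  | add a b ha hb => rw [map_add, LinearMap.add_apply, map_add, ha, hb, add_mul]
  | smul c a ha => rw [map_zsmul, LinearMap.smul_apply, map_zsmul, ha, smul_mul_assoc]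

theorem vec_del (g : G) :
    vec (del g) = MonoidAlgebra.single (Abelianization.of g) 1 - 1 := by
  show ∑ q, MonoidAlgebra.single q (bvec (Abelianization.of g) q) = _
  simp only [bvec, Pi.sub_apply, MonoidAlgebra.single_sub, Finset.sum_sub_distrib, Pi.single_apply]
  rw [Finset.sum_eq_single (Abelianization.of g), Finset.sum_eq_single (1 : Abelianization G)]
  · simp [MonoidAlgebra.one_def]
  · intro b _ hb; simp [hb]
  · simp
  · intro b _ hb; simp [hb]
  · simp

/-- The image of the augmentation ideal. -/
noncomputable def augImage (G : Type*) [Group G] [Finite G] [Fintype G] : AddSubgroup (split G) where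
  carrier := {x | ∃ i : G → MonoidAlgebra ℤ (Abelianization G),
    (∀ g, aug (i g) = 0) ∧ x = ∑ g, ring (i g) (del g)}
  zero_mem' := ⟨0, by simp, by simp⟩
  add_mem' := by
    rintro _ _ ⟨i, hi, rfl⟩ ⟨j, hj, rfl⟩
    exact ⟨i + j, fun g => by simp [hi g, hj g], by simp [Finset.sum_add_distrib]⟩
  neg_mem' := by
    rintro _ ⟨i, hi, rfl⟩
    exact ⟨-i, fun g => by simp [hi g], by simp⟩

theorem rho_sub_mem [Fintype G] (p : Abelianization G) (g : G) :
    rho p (del g) - del g ∈ augImage G := by
  refine ⟨Pi.single g (MonoidAlgebra.single p 1 - 1), fun h => ?_, ?_⟩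
  · rcases eq_or_ne h g with rfl | hne
    · simp [aug_single, map_sub]
    · simp [Pi.single_eq_of_ne hne]
  · rw [Finset.sum_eq_single g]
    · simp [map_sub, ring_single]
    · intro b _ hb; simp [Pi.single_eq_of_ne hb]
    · simp

theorem relation_mem [Fintype G] (l : G → ℤ) (hl : ∏ g, Abelianization.of g ^ l g = 1) :
    ∑ g, l g • del g ∈ augImage G := by
  let θ : G →* Multiplicative (split G ⧸ augImage G) :=
    { toFun := fun g => Multiplicative.ofAdd (QuotientAddGroup.mk (del g))
      map_one' := by rw [del_one]; rfl
      map_mul' := fun g h => by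
        rw [← ofAdd_add, ← QuotientAddGroup.mk_add]
        congr 1
        rw [QuotientAddGroup.eq]
        have e : -del (g * h) + (del g + del h) = -(rho (Abelianization.of g) (del h) - del h) := by
          rw [del_mul]; abel
        rw [e]
        exact neg_mem (rho_sub_mem _ _) }
  have h1 := congrArg (Abelianization.lift θ) hl
  rw [map_prod, map_one] at h1
  simp only [map_zpow, Abelianization.lift_apply_of] at h1
  have h2 := congrArg Multiplicative.toAdd h1
  rw [toAdd_prod, toAdd_one] at h2
  simp only [θ, MonoidHom.coe_mk, OneHom.coe_mk, toAdd_zpow, toAdd_ofAdd] at h2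
  rw [← QuotientAddGroup.eq_zero_iff, ← h2]
  exact map_sum (QuotientAddGroup.mk' (augImage G)) _ _ |>.trans
    (Finset.sum_congr rfl fun g _ => map_zsmul (QuotientAddGroup.mk' (augImage G)) _ _)

/-- The norm element annihilates the splitting module. -/
theorem norm_del (g₀ : G) : ∑ q : Abelianization G, rho q (del g₀) = 0 := by
  haveI := Fintype.ofFinite G
  -- the lattice of relations
  let ψ : (G → ℤ) →ₗ[ℤ] Additive (Abelianization G) := AddMonoidHom.toIntLinearMap
    { toFun := fun l => ∑ g, l g • Additive.ofMul (Abelianization.of g)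
      map_zero' := by simp
      map_add' := fun l m => by simp [add_smul, Finset.sum_add_distrib] }
  have hψ : Function.Surjective ψ := by
    intro a
    obtain ⟨g, hg⟩ := QuotientGroup.mk_surjective a.toMul
    refine ⟨Pi.single g 1, ?_⟩
    show ∑ h, (Pi.single g (1 : ℤ) : G → ℤ) h • Additive.ofMul (Abelianization.of h) = a
    rw [Finset.sum_eq_single g]
    · rw [Pi.single_eq_same, one_smul]; exact congrArg Additive.ofMul hg
    · intro b _ hb; simp [Pi.single_eq_of_ne hb]
    · simp
  set L := LinearMap.ker ψ
  set m := Fintype.card (Abelianization G) with hm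
  have hrank : Module.finrank ℤ L = Module.finrank ℤ (G → ℤ) := by
    refine le_antisymm (Submodule.finrank_le L) ?_
    let f : (G → ℤ) →ₗ[ℤ] L := LinearMap.codRestrict L ((m : ℤ) • LinearMap.id) fun l => by
      rw [LinearMap.mem_ker, LinearMap.smul_apply, LinearMap.id_apply, map_zsmul]
      exact congrArg Additive.ofMul (show (Additive.toMul (ψ l)) ^ (m : ℤ) = 1 by
        rw [zpow_natCast, hm, pow_card_eq_one])
    refine LinearMap.finrank_le_finrank_of_injective (f := f) fun a b hab => ?_
    funext g
    have h1 := congrFun (congrArg Subtype.val hab) g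
    simp only [f, LinearMap.codRestrict_apply, LinearMap.smul_apply, LinearMap.id_apply,
      Pi.smul_apply, smul_eq_mul] at h1
    exact mul_left_cancel₀ (by rw [hm]; exact_mod_cast Fintype.card_ne_zero) h1
  let bE := Pi.basisFun ℤ G
  let bL : Module.Basis G ℤ L :=
    (Module.finBasisOfFinrankEq ℤ L (hrank.trans (Module.finrank_pi ℤ))).reindex
      (Fintype.equivFin G).symm
  have hdet : (bE.det ((↑) ∘ bL)).natAbs = m := by
    rw [Submodule.natAbs_det_basis_change bE L bL, hm, ← Nat.card_eq_fintype_card]
    exact Nat.card_congr ((ψ.quotKerEquivOfSurjective hψ).toEquiv.trans Additive.toMul)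
  -- the relation matrix
  have hrel : ∀ i : G, ∑ g, (bL i : G → ℤ) g • del g ∈ augImage G := by
    intro i
    refine relation_mem _ ?_
    have h1 : ψ (bL i : G → ℤ) = 0 := (bL i).2
    have h2 := congrArg Additive.toMul h1
    rw [toMul_zero] at h2
    rw [← h2]
    show _ = Additive.toMul (∑ g, (bL i : G → ℤ) g • Additive.ofMul (Abelianization.of g))
    rw [toMul_sum]
    rfl
  choose e he1 he2 using hrel
  let M : Matrix G G (MonoidAlgebra ℤ (Abelianization G)) :=
    fun i g => ((bL i : G → ℤ) g : MonoidAlgebra ℤ (Abelianization G)) - e i g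
  have hMx : ∀ i, ∑ g, ring (M i g) (del g) = 0 := by
    intro i
    simp only [M, map_sub, map_intCast, LinearMap.sub_apply, Finset.sum_sub_distrib]
    rw [← he2 i, sub_eq_zero]
    exact Finset.sum_congr rfl fun g _ => Module.End.intCast_apply _ _
  have hann : ∀ k : G, ring M.det (del k) = 0 := by
    intro k
    have h1 : ∑ g, ring ((M.adjugate * M) k g) (del g) = 0 := by
      simp only [Matrix.mul_apply, map_sum, LinearMap.sum_apply, map_mul, Module.End.mul_apply]
      rw [Finset.sum_comm]
      refine Finset.sum_eq_zero fun i _ => ?_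
      rw [← map_sum, hMx, map_zero]
    rw [Matrix.adjugate_mul, Finset.sum_eq_single k] at h1
    · simpa using h1
    · intro b _ hb; simp [Matrix.one_apply_ne (Ne.symm hb)]
    · simp
  have haug : (aug M.det).natAbs = m := by
    rw [← hdet]
    congr 1
    rw [Module.Basis.det_apply, ← Matrix.det_transpose (bE.toMatrix _)]
    rw [show aug M.det = (aug : _ →ₐ[ℤ] ℤ).toRingHom M.det from rfl, RingHom.map_det]
    congr 1
    ext i g
    rw [RingHom.mapMatrix_apply, Matrix.map_apply]
    show aug (M i g) = _
    simp [M, bE, Module.Basis.toMatrix_apply, Matrix.transpose_apply, he1]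
  -- `det` is an integer multiple of the norm
  set c := M.det
  have hconst : ∀ p : Abelianization G, c.coeff p = c.coeff 1 := by
    intro p
    obtain ⟨g, hg⟩ := QuotientGroup.mk_surjective p
    have hg' : Abelianization.of g = p := hg
    have h1 := congrArg vec (hann g)
    rw [vec_ring, vec_del, map_zero, mul_sub, mul_one, sub_eq_zero, hg'] at h1
    have h2 := congrArg (fun r : MonoidAlgebra ℤ (Abelianization G) => r.coeff p) h1
    have h3 : (c * MonoidAlgebra.single p (1 : ℤ)).coeff p = c.coeff 1 * 1 :=
      MonoidAlgebra.coeff_mul_single_eq_coeff_mul 1 fun m' _ => mul_eq_right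
    rw [mul_one] at h3
    exact h2.symm.trans h3
  have hc : c = c.coeff 1 • ∑ q : Abelianization G, MonoidAlgebra.single q (1 : ℤ) := by
    apply MonoidAlgebra.ext
    refine Finsupp.ext fun p => ?_
    rw [MonoidAlgebra.coeff_smul, MonoidAlgebra.coeff_sum, Finsupp.smul_apply, Finsupp.finsetSum_apply]
    simp [hconst p, Finsupp.single_apply]
  have hk : c.coeff 1 = 1 ∨ c.coeff 1 = -1 := by
    refine Int.natAbs_eq_natAbs_iff.mp (show (c.coeff 1).natAbs = (1 : ℤ).natAbs from ?_)
    rw [hc, map_zsmul, map_sum] at haug
    simp only [aug_single, Finset.sum_const, Finset.card_univ, ← hm, nsmul_eq_mul, mul_one,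
      smul_eq_mul, Int.natAbs_mul, Int.natAbs_natCast] at haug
    rw [Int.natAbs_one]
    exact Nat.eq_of_mul_eq_mul_right (Fintype.card_pos (α := Abelianization G)) (by
      rw [← hm, one_mul]; exact haug)
  have h := hann g₀
  rw [hc, map_zsmul, map_sum, LinearMap.smul_apply, LinearMap.sum_apply] at h
  simp only [ring_single] at h
  rcases hk with e1 | e1 <;> rw [e1] at h
  · rwa [one_smul] at h
  · rwa [neg_smul, one_smul, neg_eq_zero] at h

/-- **Principal ideal theorem.** -/
theorem transfer_eq_one :
    MonoidHom.transfer (Abelianization.of : ↥(commutator G) →* Abelianization ↥(commutator G)) =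
      (1 : G →* Abelianization ↥(commutator G)) := by
  refine MonoidHom.ext fun g => ?_
  let T : (commutator G).LeftTransversal := default
  rw [MonoidHom.transfer_def _ T, MonoidHom.one_apply]
  let α : Abelianization G → G := fun q => (T.2.leftQuotientEquiv q : G)
  have hα : ∀ q, Abelianization.of (α q) = q := fun q =>
    T.2.quotientGroupMk_leftQuotientEquiv q
  unfold Subgroup.leftTransversals.diff
  apply Additive.ofMul.injective
  rw [ofMul_prod, ofMul_one]
  have key : ∀ (q : Abelianization G) (n : ↥(commutator G)),
      (n : G) = (α q)⁻¹ * (g * α ((Abelianization.of g)⁻¹ * q)) →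
      ((cls n, 0) : Co G) = ((rho q⁻¹ (del g) + rho ((Abelianization.of g)⁻¹ * q)⁻¹
        (del (α ((Abelianization.of g)⁻¹ * q))) - rho q⁻¹ (del (α q)) : split G) : Co G) := by
    intro q n hn
    rw [← del_coe_mem n]
    congr 1
    have h1 : α q * (n : G) = g * α ((Abelianization.of g)⁻¹ * q) := by rw [hn, mul_inv_cancel_left]
    have h2 := congrArg (fun z => rho q⁻¹ (del z)) h1
    simp only [del_mul, map_add, ← Module.End.mul_apply, ← map_mul, hα] at h2
    rw [inv_mul_cancel, map_one, Module.End.one_apply, mul_comm q⁻¹, ← eq_sub_iff_add_eq'] at h2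
    rw [h2]
    have e : Abelianization.of g * q⁻¹ = ((Abelianization.of g)⁻¹ * q)⁻¹ := by
      rw [mul_inv_rev, inv_inv, mul_comm]
    rw [e]
  haveI := (commutator G).fintypeQuotientOfFiniteIndex
  calc _ = (∑ q : Abelianization G, ((rho q⁻¹ (del g) + rho ((Abelianization.of g)⁻¹ * q)⁻¹
        (del (α ((Abelianization.of g)⁻¹ * q))) - rho q⁻¹ (del (α q)) : split G) : Co G)).1 := by
        rw [Prod.fst_sum]
        refine Finset.sum_congr (Finset.ext fun x => iff_of_true (@Finset.mem_univ _ (_) x) (@Finset.mem_univ _ (_) x)) fun q _ => ?_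
        rw [← key q]
        simp only [Subgroup.smul_apply_eq_smul_apply_inv_smul, smul_eq_mul]
        rfl
    _ = 0 := by
      rw [← Submodule.coe_sum, Finset.sum_sub_distrib, Finset.sum_add_distrib]
      have e1 : ∑ q : Abelianization G, rho q⁻¹ (del g) = 0 :=
        (Fintype.sum_equiv (Equiv.inv _) _ (fun q => rho q (del g)) fun q => rfl).trans (norm_del g)
      have e2 : ∑ q : Abelianization G, rho ((Abelianization.of g)⁻¹ * q)⁻¹
          (del (α ((Abelianization.of g)⁻¹ * q))) = ∑ q : Abelianization G, rho q⁻¹ (del (α q)) :=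
        Fintype.sum_equiv (Equiv.mulLeft (Abelianization.of g)⁻¹) _ _ fun q => rfl
      rw [e1, e2, zero_add, sub_self]
      rfl

end CfsgLib.PrincipalIdeal
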